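import Groth.Prelude.Def_PicRel2
import Groth.Agent.Lib.Poincare.DualBC
import Groth.Agent.Lib.Ample.CocPullback

/-!
# Representability of the relative Picard functor commutes with base change
-/

set_option autoImplicit false
set_option backward.isDefEq.respectTransparency false
universe u

noncomputable section

open CategoryTheory CategoryTheory.Limits AlgebraicGeometry
open GrothLib.DualBC (pullCl_comp pullCl_id)

namespace GrothLib.RelPicBC26

variable {X S S' : Scheme.{u}} (f : X ⟶ S) (g : S' ⟶ S)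

/-- A scheme over `S'` as a scheme over `S`. -/
abbrev dn (T : Over S') : Over S := Over.mk (T.hom ≫ g)

/-- A morphism over `S'` as a morphism over `S`. -/
abbrev dnMap {T T' : Over S'} (u : T' ⟶ T) : dn g T' ⟶ dn g T :=
  Over.homMk u.left (by simp [dn, Over.w_assoc u])

/-- The comparison of the two products. -/
abbrev iso (T : Over S') : pullback (pullback.snd f g) T.hom ≅ pullback f (T.hom ≫ g) :=
  pullbackLeftPullbackSndIso f g T.hom

theorem inv_XTmap {T T' : Over S'} (u : T' ⟶ T) :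
    (iso f g T').inv ≫ PicF.XTmap (pullback.snd f g) u = PicF.XTmap f (dnMap g u) ≫ (iso f g T).inv := by
  rw [← cancel_mono (iso f g T).hom, Category.assoc, Category.assoc, Iso.inv_hom_id, Category.comp_id]
  ext
  · simp [PicF.XTmap, iso]
  · simp [PicF.XTmap, iso]

theorem isInvertibleCl_pullCl {Y Y' : Scheme.{u}} (q : Y' ⟶ Y) {c : PicF.Cl Y} (hc : PicF.IsInvertibleCl c) :
    PicF.IsInvertibleCl (PicF.pullCl q c) := by
  obtain ⟨L, rfl, hL⟩ := hc
  exact ⟨_, rfl, Ample.isInvertible_pullback q hL⟩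

theorem pullCl_hom_inv {Y Y' : Scheme.{u}} (e : Y ≅ Y') (c : PicF.Cl Y') :
    PicF.pullCl e.inv (PicF.pullCl e.hom c) = c := by
  rw [pullCl_comp, e.inv_hom_id, pullCl_id]

theorem pullCl_inv_hom {Y Y' : Scheme.{u}} (e : Y ≅ Y') (c : PicF.Cl Y) :
    PicF.pullCl e.hom (PicF.pullCl e.inv c) = c := by
  rw [pullCl_comp, e.hom_inv_id, pullCl_id]

theorem pullCl_inv_XTmap {T T' : Over S'} (u : T' ⟶ T) (d : PicF.Cl (PicF.XT (pullback.snd f g) T)) :
    PicF.pullCl (iso f g T').inv (PicF.pullCl (PicF.XTmap (pullback.snd f g) u) d) =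
      PicF.pullCl (PicF.XTmap f (dnMap g u)) (PicF.pullCl (iso f g T).inv d) :=
  (pullCl_comp _ _ d).trans ((congrArg (fun q => PicF.pullCl q d) (inv_XTmap f g u)).trans (pullCl_comp _ _ d).symm)

theorem pullCl_XTmap_comp {T T' T'' : Over S} (u : T'' ⟶ T') (v : T' ⟶ T) (d : PicF.Cl (PicF.XT f T)) :
    PicF.pullCl (PicF.XTmap f u) (PicF.pullCl (PicF.XTmap f v) d) = PicF.pullCl (PicF.XTmap f (u ≫ v)) d :=
  (pullCl_comp _ _ d).trans (congrArg (fun q => PicF.pullCl q d) (by ext <;> simp [PicF.XTmap]))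

/-- Passing from `U ⟶ T ⟶ S'` to `U ⟶ T ⟶ S`. -/
abbrev cmpOvr (T : Over S') (U : T.left.Etale) : dn g (PicRel.ovr T U) ⟶ PicRel.ovr (dn g T) U :=
  Over.homMk (𝟙 _) (by simp [dn, PicRel.ovr])

theorem cmpOvr_comp (T : Over S') (U : T.left.Etale) :
    cmpOvr g T U ≫ PicRel.ovrHom (dn g T) U = dnMap g (PicRel.ovrHom T U) :=
  CategoryTheory.Over.OverMorphism.ext (Category.id_comp _)

variable (P : Over S) (φ : ∀ T : Over S, PicF.Cl (PicF.XT f T) → (T ⟶ P))

/-- The structure morphism of the base change. -/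
abbrev ψ (T : Over S') (c : PicF.Cl (PicF.XT (pullback.snd f g) T)) : T ⟶ Over.mk (pullback.snd P.hom g) :=
  Over.homMk
    (pullback.lift (φ (Over.mk (T.hom ≫ g)) (PicF.pullCl (pullbackLeftPullbackSndIso f g T.hom).inv c)).left T.hom
      (Over.w (φ (Over.mk (T.hom ≫ g)) (PicF.pullCl (pullbackLeftPullbackSndIso f g T.hom).inv c))))
    (pullback.lift_snd _ _ _)

theorem ψ_eq_iff (T : Over S') (c : PicF.Cl (PicF.XT (pullback.snd f g) T)) (h : T ⟶ Over.mk (pullback.snd P.hom g)) :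
    ψ f g P φ T c = h ↔ (φ (dn g T) (PicF.pullCl (iso f g T).inv c)).left = h.left ≫ pullback.fst P.hom g := by
  constructor
  · rintro rfl
    exact (pullback.lift_fst _ _ _).symm
  · intro e
    refine CategoryTheory.Over.OverMorphism.ext (pullback.hom_ext ?_ ?_)
    · exact (pullback.lift_fst _ _ _).trans e
    · exact (pullback.lift_snd _ _ _).trans (Over.w h).symm

theorem natural' (hP : PicRel.IsRelPic f P φ) (T T' : Over S') (u : T' ⟶ T)
    (c : PicF.Cl (PicF.XT (pullback.snd f g) T)) (hc : PicF.IsInvertibleCl c) :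
    ψ f g P φ T' (PicF.pullCl (PicF.XTmap (pullback.snd f g) u) c) = u ≫ ψ f g P φ T c := by
  rw [ψ_eq_iff, pullCl_inv_XTmap, hP.natural _ _ (dnMap g u) _ (isInvertibleCl_pullCl _ hc)]
  show u.left ≫ _ = (u.left ≫ _) ≫ _
  rw [Category.assoc]
  exact congrArg (u.left ≫ ·) ((ψ_eq_iff f g P φ T c _).1 rfl)

theorem locallySurjective' (hP : PicRel.IsRelPic f P φ) (T : Over S') (h : T ⟶ Over.mk (pullback.snd P.hom g)) :
    ∃ (ι : Type u) (U : ι → T.left.Etale), EtCoh.Covers U ∧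
      ∀ i, ∃ c : PicF.Cl (PicF.XT (pullback.snd f g) (PicRel.ovr T (U i))), PicF.IsInvertibleCl c ∧
        ψ f g P φ (PicRel.ovr T (U i)) c = PicRel.ovrHom T (U i) ≫ h := by
  let h₀ : dn g T ⟶ P := Over.homMk (h.left ≫ pullback.fst P.hom g) (by
    have hw : h.left ≫ pullback.snd P.hom g = T.hom := Over.w h
    simp only [dn, Over.mk_hom, Category.assoc]
    rw [pullback.condition, ← Category.assoc, hw])
  obtain ⟨ι, U, hU, hc⟩ := hP.locallySurjective (dn g T) h₀
  refine ⟨ι, U, hU, fun i => ?_⟩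
  obtain ⟨c, hci, hce⟩ := hc i
  refine ⟨PicF.pullCl (iso f g (PicRel.ovr T (U i))).hom (PicF.pullCl (PicF.XTmap f (cmpOvr g T (U i))) c),
    isInvertibleCl_pullCl _ (isInvertibleCl_pullCl _ hci), ?_⟩
  rw [ψ_eq_iff, pullCl_hom_inv (iso f g (PicRel.ovr T (U i))), hP.natural _ _ (cmpOvr g T (U i)) c hci, hce]
  exact (Category.id_comp _).trans (Category.assoc _ _ _).symm

theorem locallyInjective' (hP : PicRel.IsRelPic f P φ) (T : Over S')
    (c c' : PicF.Cl (PicF.XT (pullback.snd f g) T)) (hc : PicF.IsInvertibleCl c) (hc' : PicF.IsInvertibleCl c')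
    (h : ψ f g P φ T c = ψ f g P φ T c') : ∃ (ι : Type u) (U : ι → T.left.Etale), EtCoh.Covers U ∧
      ∀ i, PicF.pullCl (PicF.XTmap (pullback.snd f g) (PicRel.ovrHom T (U i))) c =
        PicF.pullCl (PicF.XTmap (pullback.snd f g) (PicRel.ovrHom T (U i))) c' := by
  have h1 := ((ψ_eq_iff f g P φ T c _).1 h).trans ((ψ_eq_iff f g P φ T c' _).1 rfl).symm
  obtain ⟨ι, U, hU, hcc⟩ := hP.locallyInjective (dn g T) _ _ (isInvertibleCl_pullCl _ hc)
    (isInvertibleCl_pullCl _ hc') (CategoryTheory.Over.OverMorphism.ext h1)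
  refine ⟨ι, U, hU, fun i => ?_⟩
  have key : ∀ d, PicF.pullCl (iso f g (PicRel.ovr T (U i))).inv
      (PicF.pullCl (PicF.XTmap (pullback.snd f g) (PicRel.ovrHom T (U i))) d) =
        PicF.pullCl (PicF.XTmap f (cmpOvr g T (U i))) (PicF.pullCl (PicF.XTmap f (PicRel.ovrHom (dn g T) (U i)))
          (PicF.pullCl (iso f g T).inv d)) := fun d => by
    rw [pullCl_inv_XTmap, pullCl_XTmap_comp, cmpOvr_comp]
  have h2 := congrArg (PicF.pullCl (iso f g (PicRel.ovr T (U i))).hom)
    ((key c).trans ((congrArg _ (hcc i)).trans (key c').symm))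
  rw [pullCl_inv_hom, pullCl_inv_hom] at h2
  exact h2

theorem isRelPic_baseChange (hP : PicRel.IsRelPic f P φ) :
    PicRel.IsRelPic (pullback.snd f g) (Over.mk (pullback.snd P.hom g)) (fun T c => ψ f g P φ T c) :=
  ⟨natural' f g P φ hP, locallySurjective' f g P φ hP, locallyInjective' f g P φ hP⟩

end GrothLib.RelPicBC26
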